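import Cfsg.Agent.K16.BaB2
import Cfsg.Agent.Y16.Aff
import Cfsg.Agent.Y16.R7
import Cfsg.Agent.Y16.WcA

/-! Groups with a `2`-local subgroup `2⁴ : L₄(2)`: the basic lemmas. -/
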