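import Cfsg.Agent.K16.MdC

set_option autoImplicit false

namespace Cfsg.Lib.K16

open Equiv Subgroup Cfsg.Lib.A16 Cfsg.Lib.Y16 Cfsg.Lib.Trans Cfsg.Lib.Gold

namespace EXf

/-- The vector of a number. -/
def dc (n : ℕ) : Vc := fun i => bif n.testBit i then 1 else 0

/-- Codes of even vectors. -/
def pe (n : ℕ) : Bool :=
  Nat.testBit 0x9669699669969669699696699669699669969669966969969669699669969669 n

/-- The map of order seven. -/
def nl (n : ℕ) : ℕ :=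
  0xfffefbfaefeeebeabfbebbbaafaeabaaf7f6f3f2e7e6e3e2b7b6b3b2a7a6a3a2fdfcf9f8edece9e8bdbcb9b8adaca9a8f5f4f1f0e5e4e1e0b5b4b1b0a5a4a1a07f7e7b7a6f6e6b6a3f3e3b3a2f2e2b2a777673726766636237363332272623227d7c79786d6c69683d3c39382d2c292875747170656461603534313025242120dfdedbdacfcecbca9f9e9b9a8f8e8b8ad7d6d3d2c7c6c3c29796939287868382dddcd9d8cdccc9c89d9c99988d8c8988d5d4d1d0c5c4c1c095949190858481805f5e5b5a4f4e4b4a1f1e1b1a0f0e0b0a575653524746434217161312070603025d5c59584d4c49481d1c19180d0c090855545150454441401514111005040100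
    >>> (8 * n) % 256

/-- The translations. -/
def nb (a n : ℕ) : ℕ :=
  (bif a.testBit 0 then fun m => (m &&& 85) <<< 1 ||| m >>> 1 &&& 85 else id)
    ((bif a.testBit 1 then fun m => (m &&& 51) <<< 2 ||| m >>> 2 &&& 51 else id)
      ((bif a.testBit 2 then fun m => (m &&& 15) <<< 4 ||| m >>> 4 else id) n))

/-- The twisted exchange. -/
def nt (k n : ℕ) : ℕ := (n &&& 195 ||| (n &&& 12) <<< 2 ||| (n &&& 48) >>> 2) ^^^
  bif pe (n &&& 0x963c5af066ccaa00 >>> (8 * k) % 256) then 0 else 255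

/-- A combination. -/
def cb (n a b c : ℕ) : ℕ := (bif pe (n &&& 192) then 0 else a) ^^^
  (bif pe (n &&& 204) then 0 else b) ^^^ (bif pe (n &&& 240) then 0 else c)

/-- The candidates. -/
def np (d e n : ℕ) : ℕ := n ^^^ cb n 3 d e

/-- Letters. -/
def st (k d e c m : ℕ) : ℕ :=
  bif c.beq 0 then nl m else bif c.beq 1 then nt k m else
    bif c.beq 2 then (m &&& 51) <<< 2 ||| m >>> 2 &&& 51 else np d e m

/-- Words. -/
noncomputable def ev (k d e : ℕ) (W : List ℕ) (n : ℕ) : ℕ :=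
  List.rec n (fun c _ m => st k d e c m) W

/-- Codes of the block vectors. -/
def BL : List ℕ := [0, 3, 12, 15, 48, 51, 60, 63, 192, 195, 204, 207, 240, 243, 252, 255]

/-- The words that give a contradiction. -/
def KL : List (List ℕ) := [[1, 3, 1, 3], [0, 0, 0, 3, 0, 2, 1, 0, 0, 0, 3, 0, 2, 1],
  [0, 3, 2, 1, 0, 3, 2, 1, 0, 3, 2, 1, 0, 3, 2, 1, 0, 3, 2, 1, 0, 3, 2, 1]]

/-- `g` represents `f`. -/
def Rp (f : Vc → Vc) (g : ℕ → ℕ) : Prop := ∀ n, pe n = true → pe (g n) = true ∧ f (dc n) = dc (g n)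

theorem pe_lt {n : ℕ} (h : pe n = true) : n < 256 := by
  by_contra hn
  rw [pe, Nat.testBit_lt_two_pow (lt_of_lt_of_le (by decide +kernel)
    (Nat.pow_le_pow_right (by decide) (not_lt.1 hn)))] at h
  exact absurd h (by decide)

theorem pe_ev {n : ℕ} (h : pe n = true) : Ev (dc n) := by
  have : ∀ n < 256, pe n = true → Ev (dc n) := by decide +kernel
  exact this n (pe_lt h) h

theorem ev_dc {v : Vc} (h : Ev v) : ∃ n, pe n = true ∧ v = dc n := by
  refine ⟨∑ i, (v i).val * 2 ^ (i : ℕ), ?_⟩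
  revert v; decide +kernel

theorem dc_inj {n m : ℕ} (hn : pe n = true) (hm : pe m = true) (h : dc n = dc m) : n = m := by
  have : ∀ n < 256, ∑ i, (dc n i).val * 2 ^ (i : ℕ) = n := by decide +kernel
  rw [← this n (pe_lt hn), ← this m (pe_lt hm), h]

theorem dc_xor (n m : ℕ) : dc (n ^^^ m) = dc n + dc m := funext fun i => by
  change (bif (n ^^^ m).testBit i then 1 else 0 : ZMod 2) =
    (bif n.testBit i then 1 else 0) + (bif m.testBit i then 1 else 0)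
  rw [Nat.testBit_xor]
  cases n.testBit i <;> cases m.testBit i <;> rfl

theorem rp_l : Rp (ac l7) nl := fun n h => by
  have : ∀ n < 256, pe n = true → pe (nl n) = true ∧ ac l7 (dc n) = dc (nl n) := by
    decide +kernel
  exact this n (pe_lt h) h

theorem rp_b (a : Fin 8) : Rp (ac (tr a)) (nb a) := fun n h => by
  have : ∀ a : Fin 8, ∀ n < 256, pe n = true →
      pe (nb a n) = true ∧ ac (tr a) (dc n) = dc (nb a n) := by decide +kernel
  exact this a n (pe_lt h) h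

theorem rp_t (k : Fin 8) : Rp (aq k tt) (nt k) := fun n h => by
  have h1 : ∀ k : Fin 8, ∀ n < 256, pe n = true → pe (nt k n) = true ∧
      dc (nt k n) = dc (nt 0 n) + (∑ i, dc n i * ip k i) • zv := by decide +kernel
  have h2 : ∀ n < 256, pe n = true → dc (nt 0 n) = ac tt (dc n) := by decide +kernel
  refine ⟨(h1 k n (pe_lt h) h).1, ?_⟩
  rw [(h1 k n (pe_lt h) h).2, h2 n (pe_lt h) h]; rfl

theorem rp_s : Rp (ac (sk 0)) (np 3 3) := fun n h => by
  have : ∀ n < 256, pe n = true → pe (np 3 3 n) = true ∧ ac (sk 0) (dc n) = dc (np 3 3 n) := by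
    decide +kernel
  exact this n (pe_lt h) h

theorem bv_dc {β : Vc} (h : Bv β) : ∃ d ∈ BL, β = dc d := by revert β; decide +kernel

theorem rp_p {φ : Vc → Vc} (p1 : ∀ v w, Ev v → Ev w → φ (v + w) = φ v + φ w)
    (p2 : ∀ β, Bv β → φ β = β) (p3 : ∀ v, Ev v → Bv (φ v + v)) (p4 : φ xv = xv + bv 0) :
    ∃ d ∈ BL, ∃ e ∈ BL, Rp φ (np d e) := by
  obtain ⟨d, hd, e1⟩ := bv_dc (p3 (dc 5) (by decide))
  obtain ⟨e, he, e2⟩ := bv_dc (p3 (dc 17) (by decide))
  refine ⟨d, hd, e, he, fun n hn => ⟨?_, ?_⟩⟩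
  · have : ∀ d ∈ BL, ∀ e ∈ BL, ∀ n < 256, pe n = true → pe (np d e n) = true := by
      decide +kernel
    exact this d hd e he n (pe_lt hn) hn
  have hx : ∀ {a b c d : ℕ}, Ev (dc a) ∧ φ (dc a) = dc a + dc b →
      Ev (dc c) ∧ φ (dc c) = dc c + dc d →
      Ev (dc (a ^^^ c)) ∧ φ (dc (a ^^^ c)) = dc (a ^^^ c) + dc (b ^^^ d) := fun x y => by
    rw [dc_xor, dc_xor, p1 _ _ x.1 y.1, x.2, y.2, add_add_add_comm]
    exact ⟨x.1.add y.1, rfl⟩
  have z : dc 0 = 0 := by decide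
  have h0 : ∀ {a : ℕ}, Bv (dc a) → Ev (dc a) ∧ φ (dc a) = dc a + dc 0 := fun x =>
    ⟨x.ev, by rw [p2 _ x, z, add_zero]⟩
  have hc : ∀ (t : Bool) {a b : ℕ}, Ev (dc a) ∧ φ (dc a) = dc a + dc b →
      Ev (dc (bif t then 0 else a)) ∧ φ (dc (bif t then 0 else a)) =
        dc (bif t then 0 else a) + dc (bif t then 0 else b) := fun t _ _ x => by
    cases t
    exacts [x, h0 (a := 0) (by decide)]
  have hs : ∀ {a b : ℕ}, φ (dc a) + dc a = dc b → φ (dc a) = dc a + dc b := fun x => by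
    rw [← x, add_comm (φ _), ← add_assoc, vc_add_self, zero_add]
  have hb : ∀ n < 256, pe n = true → Bv (dc (n ^^^ cb n 170 5 17)) := by decide +kernel
  have h1 : Ev (dc 170) ∧ φ (dc 170) = dc 170 + dc 3 := by
    rw [show dc 170 = xv by decide +kernel, show dc 3 = bv 0 by decide +kernel]
    exact ⟨af_xv.ev, p4⟩
  have := (hx (h0 (hb n (pe_lt hn) hn)) (hx (hx (hc (pe (n &&& 192)) h1)
    (hc (pe (n &&& 204)) ⟨by decide, hs e1⟩)) (hc (pe (n &&& 240)) ⟨by decide, hs e2⟩))).2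
  change φ (dc (n ^^^ cb n 170 5 17 ^^^ cb n 170 5 17)) =
    dc (n ^^^ cb n 170 5 17 ^^^ cb n 170 5 17) + dc (0 ^^^ cb n 3 d e) at this
  rw [Nat.xor_xor_cancel_right, Nat.zero_xor, ← dc_xor] at this
  exact this

theorem fin1 : ∀ k : Fin 8, (∀ n ∈ [3, 5, 17], ev k 0 0 [1, 1] n = n) →
    (∀ n ∈ [3, 5, 17], ev k 0 0 [0, 1, 0, 1, 0, 1] n = n) → k = 0 ∨ k = 1 := by decide +kernel

theorem fin2 : ∀ k : Fin 8, k = 0 ∨ k = 1 → ∀ d ∈ BL, ∀ e ∈ BL,
    (∀ n ∈ [5, 17, 170], nb 2 (np d e (nb 2 n)) =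
      np d e (ev k d e [0, 0, 0, 1, 0, 0, 0, 2, 0] n)) →
    (∀ n ∈ [5, 17, 170], nb 4 (np d e (nb 4 n)) =
      np d e (ev k d e [0, 1, 0, 0, 2, 0, 0, 1, 0, 0, 0] n)) →
    (k = 0 ∧ d = 3 ∧ e = 3) ∨ ∃ W ∈ KL,
      (∀ a : Fin 8, ∃ n ∈ [3, 5, 9, 17, 33, 65, 129], ev k d e W n ≠ nb a n) ∧
      ∀ a ∈ [1, 2, 4], ∀ n < 256, pe n = true → ev k d e W (nb a n) = nb a (ev k d e W n) := by
  decide +kernel

/-- The permutation of a word. -/
def wp (W : List ℕ) : Perm (Fin 8) :=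
  W.foldr (fun c t => (bif c.beq 0 then l7 else bif c.beq 1 then tt else tr 2) * t) 1

end EXf

open EXf in
theorem ex_fin (Γ : (Vc → Vc) → Prop) (φ : Vc → Vc) (κ : Perm (Fin 8) → Fin 8)
    (hm : ∀ f g, Γ f → Γ g → Γ fun v => f (g v)) (h1 : ∀ t ∈ AG, Γ (aq (κ t) t)) (h2 : Γ φ)
    (hc : ∀ f, Γ f → (∀ a v, Ev v → f (ac (tr a) v) = ac (tr a) (f v)) →
      ∃ a, ∀ v, Ev v → f v = ac (tr a) v)
    (k1 : ∀ a, κ (tr a) = 0) (k2 : κ l7 = 0)
    (k3 : ∀ t ∈ AG, ∀ r ∈ AG, ∀ v, Ev v → aq (κ (t * r)) (t * r) v = aq (κ t) t (aq (κ r) r v))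
    (p1 : ∀ v w, Ev v → Ev w → φ (v + w) = φ v + φ w) (p2 : ∀ β, Bv β → φ β = β)
    (p3 : ∀ v, Ev v → Bv (φ v + v)) (p4 : φ xv = xv + bv 0)
    (p5 : ∀ a v, Ev v → ac (tr a) (φ (ac (tr a) v)) =
      φ (aq (κ (sk 0 * (tr a * sk 0 * tr a))) (sk 0 * (tr a * sk 0 * tr a)) v)) :
    (∀ t ∈ AG, κ t = 0) ∧ ∀ v, Ev v → φ v = ac (sk 0) v := by
  obtain ⟨d, hd, e, he, hp⟩ := rp_p p1 p2 p3 p4
  have k0 : κ 1 = 0 := tr_zero ▸ k1 0
  have r1 : Rp (aq (κ 1) 1) id := fun n hn => ⟨hn, by rw [k0, aq_zero]; rfl⟩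
  have rl : Rp (aq (κ l7) l7) nl := fun n hn => by rw [k2, aq_zero]; exact rp_l n hn
  have rb : Rp (aq (κ (tr 2)) (tr 2)) (nb 2) := fun n hn => by
    rw [k1, aq_zero]; exact rp_b 2 n hn
  have cp : ∀ {f f' g g'}, Rp f g → Rp f' g' → Rp (fun v => f (f' v)) fun n => g (g' n) :=
    fun a b n hn => ⟨(a _ (b n hn).1).1, (congrArg _ (b n hn).2).trans (a _ (b n hn).1).2⟩
  have hw : ∀ d e (W : List ℕ), (∀ c ∈ W, c < 3) →
      wp W ∈ AG ∧ Rp (aq (κ (wp W)) (wp W)) (ev (κ tt) d e W) := fun d e W => by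
    induction W with
    | nil => exact fun _ => ⟨one_mem _, r1⟩
    | cons c W ih =>
      intro h
      have ih := ih fun c h' => h c (List.mem_cons_of_mem _ h')
      have key : ∀ {t g}, t ∈ AG → Rp (aq (κ t) t) g → t * wp W ∈ AG ∧
          Rp (aq (κ (t * wp W)) (t * wp W)) fun n => g (ev (κ tt) d e W n) := fun ht r =>
        ⟨mul_mem ht ih.1, fun n hn => by
          rw [k3 _ ht _ ih.1 _ (pe_ev hn)]; exact cp r ih.2 n hn⟩
      rcases c with _ | _ | _ | c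
      exacts [key l7_AG rl, key tt_AG (rp_t _), key (tr_AG 2) rb,
        absurd (h _ List.mem_cons_self) (by omega)]
  have hΓ : ∀ W : List ℕ, ∃ f, Γ f ∧ Rp f (ev (κ tt) d e W) := fun W => by
    induction W with
    | nil => exact ⟨_, h1 1 (one_mem _), r1⟩
    | cons c W ih =>
      obtain ⟨f, a, b⟩ := ih
      have key : ∀ {f' g}, Γ f' → Rp f' g → ∃ f, Γ f ∧ Rp f fun n => g (ev (κ tt) d e W n) :=
        fun x y => ⟨_, hm _ _ x a, cp y b⟩
      rcases c with _ | _ | _ | c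
      exacts [key (h1 _ l7_AG) rl, key (h1 _ tt_AG) (rp_t _), key (h1 _ (tr_AG 2)) rb, key h2 hp]
  have rel : ∀ W : List ℕ, (∀ c ∈ W, c < 3) → wp W = 1 → ∀ n ∈ [3, 5, 17], ev (κ tt) 0 0 W n = n :=
    fun W a b n hn => by
      have hn' : pe n = true := by revert n; decide +kernel
      have := (hw 0 0 W a).2 n hn'
      rw [b] at this
      exact dc_inj this.1 hn' (this.2.symm.trans (r1 n hn').2)
  have q5 : ∀ (a : Fin 8) (W : List ℕ), (∀ c ∈ W, c < 3) → sk 0 * (tr a * sk 0 * tr a) = wp W →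
      ∀ n ∈ [5, 17, 170], nb a (np d e (nb a n)) = np d e (ev (κ tt) d e W n) :=
    fun a W x y n hn => by
      have hn' : pe n = true := by revert n; decide +kernel
      have u := cp (rp_b a) (cp hp (rp_b a)) n hn'
      have v := cp hp (hw d e W x).2 n hn'
      have := p5 a _ (pe_ev hn')
      rw [y] at this
      exact dc_inj u.1 v.1 (u.2.symm.trans (this.trans v.2))
  rcases fin2 (κ tt) (fin1 _ (rel _ (by decide) (by decide +kernel))
      (rel _ (by decide) (by decide +kernel))) d hd e he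
      (q5 2 _ (by decide) (by decide +kernel)) (q5 4 _ (by decide) (by decide +kernel)) with
    ⟨a, rfl, rfl⟩ | ⟨W, -, a, b⟩
  · refine ⟨fun t ht => AG_ind (P := fun t => κ t = 0) (fun s hs t ht x y => ?_) k1 k2 a ht,
      fun v hv => ?_⟩
    · refine dt_inj fun v hv => ?_
      have := k3 s hs t ht v hv
      rw [x, y, aq_zero, aq_zero, ← ac_mul, aq, add_eq_left] at this
      rw [dt_zero]
      simpa [zv] using congrFun this 0
    · obtain ⟨n, hn, rfl⟩ := ev_dc hv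
      rw [(hp n hn).2, (rp_s n hn).2]
  · obtain ⟨f, x, y⟩ := hΓ W
    have g1 : ∀ c : Fin 8, c.1 ∈ [1, 2, 4] → ∀ v, Ev v → f (ac (tr c) v) = ac (tr c) (f v) :=
      fun c h v hv => by
        obtain ⟨n, hn, rfl⟩ := ev_dc hv
        exact (cp y (rp_b c) n hn).2.trans ((congrArg dc (b c h n (pe_lt hn) hn)).trans
          (cp (rp_b c) y n hn).2.symm)
    have g2 : ∀ {c c' : Fin 8}, (∀ v, Ev v → f (ac (tr c) v) = ac (tr c) (f v)) →
        (∀ v, Ev v → f (ac (tr c') v) = ac (tr c') (f v)) →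
        ∀ v, Ev v → f (ac (tr (xr c c')) v) = ac (tr (xr c c')) (f v) := fun p q v hv => by
      rw [← tr_mul, ac_mul, ac_mul, p _ (hv.ac _), q v hv]
    have a1 := g1 1 (by decide)
    have a2 := g1 2 (by decide)
    have a4 := g1 4 (by decide)
    obtain ⟨c, hc'⟩ := hc f x fun c => by
      fin_cases c
      exacts [g2 a1 a1, a1, a2, g2 a1 a2, a4, g2 a1 a4, g2 a2 a4, g2 a1 (g2 a2 a4)]
    obtain ⟨n, hn, ne⟩ := a c
    have hn' : pe n = true := by clear ne; revert n; decide +kernel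
    exact absurd (dc_inj (y n hn').1 (rp_b c n hn').1
      ((y n hn').2.symm.trans ((hc' _ (pe_ev hn')).trans (rp_b c n hn').2))) ne

end Cfsg.Lib.K16
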